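import Cfsg.Agent.H570.Ore.RowB
import Cfsg.Agent.H78.Pw.Base
import Cfsg.Agent.S3331

/-!
# Baby Monster, row of S2465: the product form of T1 (helper828)

* `prd31` : every `g` with `|C(g)| ≤ 7700000000` is a product of two elements of order 31;
* `pr_b` : hence `Pr n g` for every `n` prime to 31.
-/

set_option autoImplicit false

open Cfsg Subgroup

namespace Cfsg.Agent.H828.Ore.BPr

open Cfsg.Agent.Characters.Core Cfsg.Agent.H570.Ore.Num Cfsg.Agent.H570.Ore.Abs
open Cfsg.Agent.H78.Pw
open Cfsg.Agent.BabyM Cfsg.Agent.BabyU.ClosModel Cfsg.Agent.BabyU.ClosLane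

universe u

/-- product of two elements of order 31 -/
def P31 {G : Type u} [Group G] (g : G) : Prop := ∃ a b : G, orderOf a = 31 ∧ orderOf b = 31 ∧ g = a * b

theorem P31.congr {G : Type u} [Group G] {H : Type*} [Group H] (e : G ≃* H) {g : G} (h : P31 (e g)) : P31 g := by
  obtain ⟨a, b, ha, hb, h1⟩ := h
  refine ⟨e.symm a, e.symm b, by rw [MulEquiv.orderOf_eq, ha], by rw [MulEquiv.orderOf_eq, hb], ?_⟩
  apply e.injective
  rw [map_mul, e.apply_symm_apply, e.apply_symm_apply, h1]

theorem prd31 {G : Type u} [Group G] [Finite G] [IsSimpleGroup G] {Z : G} (D : Dt G Z) {g : G}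
    (hg : Nat.card (centralizer ({g} : Set G)) ≤ 7700000000) : P31 g := by
  obtain ⟨x31, hx31, hc31⟩ := D.x31
  obtain ⟨a, b, h⟩ := H65.Ore.prd_all D.nonab (by norm_num : Nat.Prime 31) D.card hx31 hc31 15 2 143 (by decide +kernel)
    (DN := 364344) (DX := 2337075)
    (fun χ hχ h => (deg D χ hχ).1 (r2_spec.1 h)) (fun χ hχ h => (deg D χ hχ).2 (r2_spec.1 h))
    (by norm_num) (by norm_num) hx31 hg
  refine ⟨_, _, ?_, ?_, h⟩
  · rw [show orderOf (a * x31 * a⁻¹) = orderOf x31 from
      orderOf_injective (MulAut.conj a).toMonoidHom (MulAut.conj a).injective x31, hx31]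
  · rw [show orderOf (b * x31 * b⁻¹) = orderOf x31 from
      orderOf_injective (MulAut.conj b).toMonoidHom (MulAut.conj b).injective x31, hx31]

theorem card_cent_equiv {G : Type*} [Group G] {H : Type*} [Group H] (e : G ≃* H) (g : G) :
    Nat.card (centralizer ({e g} : Set H)) = Nat.card (centralizer ({g} : Set G)) := by
  refine (Nat.card_congr (Equiv.subtypeEquiv e.toEquiv fun x => ?_)).symm
  rw [mem_centralizer_singleton_iff]
  show x * g = g * x ↔ e x ∈ centralizer ({e g} : Set H)
  rw [mem_centralizer_singleton_iff, ← map_mul, ← map_mul, e.injective.eq_iff]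

/-- **Every `g` with `|C(g)| ≤ 7700000000` is a product of two elements of order 31.** -/
theorem p31 {S : Type u} [Group S] (h : Spor.IsoB S) {g : S}
    (hg : Nat.card (centralizer ({g} : Set S)) ≤ 7700000000) : P31 g := by
  have := H570.Ore.RowB.simple
  obtain ⟨e⟩ := KFacts.Baby.RowB.exists_iso h
  refine P31.congr e.symm (prd31 (H570.Ore.RowB.dt fun _ _ _ X hX hC => S3331.result X hX hC) ?_)
  rw [card_cent_equiv]
  exact hg

theorem P31.pr {G : Type u} [Group G] {g : G} (h : P31 g) {n : ℕ} (hn : Nat.Coprime 31 n) : Pr n g := by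
  obtain ⟨a, b, ha, hb, h1⟩ := h
  exact ⟨a, b, h1, by rw [ha]; exact hn, by rw [hb]; exact hn⟩

/-- **The product form of T1 of the Baby Monster.** -/
theorem pr_b {S : Type u} [Group S] (h : Spor.IsoB S) {g : S}
    (hg : Nat.card (centralizer ({g} : Set S)) ≤ 7700000000) {n : ℕ} (hn : Nat.Coprime 31 n) : Pr n g :=
  (p31 h hg).pr hn

end Cfsg.Agent.H828.Ore.BPr
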